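import Groth.Agent.Vanish.K232.RootFin
import Groth.Agent.Vanish.K909.AltThm
import Groth.Agent.Vanish.K910.DescNZ
import Groth.Agent.S17103

/-!
# (ALT), (DESC), (EV), (GR), (SPLIT) as theorems
-/

set_option autoImplicit false
set_option backward.isDefEq.respectTransparency false

universe u

open CategoryTheory CategoryTheory.Limits AlgebraicGeometry TopologicalSpace Opposite

namespace K232.RootThm

open Groth.Agent Groth.Agent.Vanish K232.RootMain K909.AltInterface K660.KolUp

variable (k : Type u) [Field k] [IsAlgClosed k] [CharZero k]

theorem ev : EV k :=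
  fun X _ _ _ _ n hn H hH L Linv hL hLinv N hN r D hD α hα h μ b =>
    Groth.Agent.S17103.result k X n hn H hH L Linv hL hLinv N hN D hD α hα h μ b

theorem gr : GR k := K232.RootFin.gr k (K909.AltThm.alt k) (K910.DescNZ.desc k) (ev k)

end K232.RootThm
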