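import Mathlib.RingTheory.IntegralClosure.IntegrallyClosed
import Mathlib.RingTheory.Multiplicity
import Mathlib.Algebra.BigOperators.Associated

/-!
# Roots of monomials in normal domains
-/

set_option autoImplicit false

namespace K232.RootAlg

variable {R ι : Type*} [CommRing R] [IsDomain R]

/-- The exponents of a monomial in pairwise non-associated primes which is an `N`-th power are divisible by `N`. -/
theorem dvd_exponent [Fintype ι] (e : ι → R) (hne : ∀ i j, i ≠ j → Prime (e i) → ¬ e i ∣ e j) {N : ℕ}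
    (s v : R) (hv : IsUnit v) (m : ι → ℕ) (hs : s ^ N = v * ∏ i, e i ^ m i) (i : ι) (hi : Prime (e i)) :
    N ∣ m i := by
  classical
  have h1 : (N : ℕ∞) * emultiplicity (e i) s = m i := by
    rw [← emultiplicity_pow hi, hs, emultiplicity_mul hi, Finset.emultiplicity_prod hi,
      Finset.sum_eq_single_of_mem i (Finset.mem_univ i), emultiplicity_pow_self_of_prime hi]
    · have h2 : emultiplicity (e i) v = 0 := emultiplicity_eq_zero.2 fun h => hi.not_isUnit (isUnit_of_dvd_unit h hv)
      rw [h2, zero_add]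
    · intro j _ hj
      rw [emultiplicity_pow hi, emultiplicity_eq_zero.2 (hne i j (Ne.symm hj) hi), mul_zero]
  rcases Nat.eq_zero_or_pos N with h0 | hN
  · rw [h0, Nat.cast_zero, zero_mul] at h1
    rw [h0, zero_dvd_iff]
    exact_mod_cast h1.symm
  have h2 : emultiplicity (e i) s ≠ ⊤ := by
    intro h
    rw [h, ENat.mul_top (by exact_mod_cast hN.ne')] at h1
    exact ENat.coe_ne_top _ h1.symm
  obtain ⟨c, hc⟩ := ENat.ne_top_iff_exists.1 h2
  rw [← hc] at h1
  exact ⟨c, by exact_mod_cast h1.symm⟩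

/-- In a normal domain, the root `s` of a monomial divides another monomial when the exponents say so. -/
theorem dvd_of_pow_eq [IsIntegrallyClosed R] [Fintype ι] (e : ι → R) (h : ∀ i, IsUnit (e i) ∨ Prime (e i))
    (hne : ∀ i j, i ≠ j → Prime (e i) → ¬ e i ∣ e j) {N : ℕ} (hN : 1 ≤ N) (s v : R) (hv : IsUnit v) (m : ι → ℕ)
    (hs : s ^ N = v * ∏ i, e i ^ m i) (q : ι → ℕ) (hq : ∀ i, N ∣ m i → m i ≤ N * q i) :
    s ∣ ∏ i, e i ^ q i := by
  rw [← IsIntegrallyClosed.pow_dvd_pow_iff (n := N) (by omega), hs, ← Finset.prod_pow,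
    hv.mul_left_dvd]
  refine Finset.prod_dvd_prod_of_dvd _ _ fun i _ => ?_
  rcases h i with hu | hp
  · exact (hu.pow _).dvd
  · rw [← pow_mul]
    apply pow_dvd_pow
    rw [mul_comm]
    exact hq i (dvd_exponent e hne s v hv m hs i hp)

/-- The numerical inequality. -/
theorem num {r : ℕ} (a α : Fin r → ℕ) {N : ℕ} (hN : 1 ≤ N) (h : N ∣ ∑ j, a j * α j) :
    ∑ j, a j * α j ≤ N * ((∑ j, a j * (α j / N)) + ((∑ j, a j) - 1)) := by
  obtain ⟨c, hc⟩ := h
  rw [hc]
  apply Nat.mul_le_mul_left
  have h1 : ∑ j, a j * α j ≤ N * (∑ j, a j * (α j / N)) + (N - 1) * ∑ j, a j := by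
    rw [Finset.mul_sum, Finset.mul_sum, ← Finset.sum_add_distrib]
    refine Finset.sum_le_sum fun j _ => ?_
    have h2 : α j ≤ N * (α j / N) + (N - 1) := by
      have := Nat.div_add_mod (α j) N
      have := Nat.mod_lt (α j) (show 0 < N by omega)
      omega
    calc a j * α j ≤ a j * (N * (α j / N) + (N - 1)) := Nat.mul_le_mul_left _ h2
      _ = _ := by ring
  rcases Nat.eq_zero_or_pos (∑ j, a j) with h0 | h0
  · have h3 : ∑ j, a j * α j = 0 := by
      refine Finset.sum_eq_zero fun j _ => ?_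
      have := (Finset.sum_eq_zero_iff.1 h0) j (Finset.mem_univ j)
      rw [this, zero_mul]
    rw [h3] at hc
    have : c = 0 := by
      rcases Nat.mul_eq_zero.1 hc.symm with h | h
      · omega
      · exact h
    omega
  · have h3 : N * c < N * ((∑ j, a j * (α j / N)) + ∑ j, a j) := by
      rw [← hc]
      refine lt_of_le_of_lt h1 ?_
      rw [mul_add]
      apply Nat.add_lt_add_left
      exact Nat.mul_lt_mul_of_pos_right (by omega) h0
    have h4 := Nat.lt_of_mul_lt_mul_left h3
    omega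

end K232.RootAlg
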