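import Groth.Agent.Vanish.K232.RootCov
import Groth.Agent.Vanish.K415.ChowAlt
import Groth.Agent.Vanish.K660.NcdEt
import Groth.Agent.Vanish.K660.Kol
import Groth.Agent.S1659

/-!
# Smooth alterations on which a function has an `N`-th root

`exists_alt`: `Z` affine of finite type over `k`, `f : X ⟶ Z` proper surjective, `X` integral, `t ≠ 0` a function on `X` with
`(t) = ∏ D_j^{α_j}`, `D_j` effective Cartier; there is `π : X₁ ⟶ X` proper surjective, `X₁` smooth integral of the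
same dimension, `t = s₀^N` on `X₁`, and a normal crossing divisor `E` on `X₁` with `π^{-1} D_j = ∏ E_i^{a_ij}`.
-/

set_option autoImplicit false
universe u

open CategoryTheory CategoryTheory.Limits AlgebraicGeometry TopologicalSpace Opposite

namespace K232.RootAlt

open Groth.Agent Groth.Agent.Vanish

/-- Components of a divisor meeting an open subscheme. -/
theorem isIntegral_comap {Y U : Scheme.{u}} (i : U ⟶ Y) [IsOpenImmersion i] (I : Y.IdealSheafData)
    [IsIntegral I.subscheme] (h : ∃ x : U, i x ∈ I.support) : IsIntegral (I.comap i).subscheme := by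
  let g : (I.comap i).subscheme ⟶ I.subscheme := (I.comapIso i).hom ≫ pullback.snd i I.subschemeι
  have hne : Nonempty (I.comap i).subscheme := by
    obtain ⟨x, hx⟩ := h
    have h1 : x ∈ ((I.comap i).support : Set U) := (K911.Ncd.mem_support_comap I i x).2 hx
    rw [← Scheme.IdealSheafData.range_subschemeι] at h1
    exact ⟨h1.choose⟩
  exact isIntegral_of_isOpenImmersion g

/-- The part of a normal crossing divisor on an open subscheme. -/
theorem exists_restrict {Y U S : Scheme.{u}} (i : U ⟶ Y) [IsOpenImmersion i] (y : Y ⟶ S) {r : ℕ}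
    (D : Fin r → Y.IdealSheafData) (hD : LogNCD.IsNCD D y) (hint : ∀ j, IsIntegral (D j).subscheme) :
    ∃ (r' : ℕ) (E : Fin r' → U.IdealSheafData), LogNCD.IsNCD E (i ≫ y) ∧ (∀ j, IsIntegral (E j).subscheme) ∧
      ∀ x : U, (∃ j, i x ∈ (D j).support) → ∃ j, x ∈ (E j).support := by
  classical
  let J : Finset (Fin r) := Finset.univ.filter fun j => ∃ x : U, i x ∈ (D j).support
  let e := J.equivFin
  refine ⟨J.card, fun j => (D (e.symm j).1).comap i, ?_, ?_, ?_⟩
  · refine K660.Kol.isNCD_comp (D := fun j => (D j).comap i) (K660.NcdEt.isNCD_comap_of_etale i hD)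
      (fun j => (e.symm j).1) ?_
    intro a b h
    exact e.symm.injective (Subtype.ext h)
  · intro j
    have := hint (e.symm j).1
    exact isIntegral_comap i _ (Finset.mem_filter.1 (e.symm j).2).2
  · rintro x ⟨j, hj⟩
    refine ⟨e ⟨j, Finset.mem_filter.2 ⟨Finset.mem_univ _, x, hj⟩⟩, ?_⟩
    rw [K911.Ncd.mem_support_comap, Equiv.symm_apply_apply]
    exact hj

theorem exists_alt {k : Type u} [Field k] (hAlt : K909.AltInterface.Alt k) {X Z : Scheme.{u}} [IsIntegral X]
    [IsIntegral Z] [IsAffine Z] (z : Z ⟶ Spec (CommRingCat.of k)) [LocallyOfFiniteType z]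
    (f : X ⟶ Z) [IsProper f] [Surjective f] (t : Γ(X, ⊤)) {N : ℕ} (hN : 1 ≤ N)
    {r : ℕ} (D : Fin r → X.IdealSheafData) (hD : ∀ j, BlowUp.IsEffCartierIdeal (D j)) :
    ∃ (X₁ : Scheme.{u}) (π : X₁ ⟶ X) (s₀ : Γ(X₁, ⊤)) (s : ℕ) (E : Fin s → X₁.IdealSheafData) (a : Fin s → Fin r → ℕ),
      IsIntegral X₁ ∧ IsProper π ∧ Surjective π ∧ Smooth (π ≫ f ≫ z) ∧
      topologicalKrullDim X₁ = topologicalKrullDim X ∧ s₀ ^ N = π.app ⊤ t ∧
      LogNCD.IsNCD E (π ≫ f ≫ z) ∧ ∀ j, (D j).comap π = ∏ i, E i ^ a i j := by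
  obtain ⟨X', p, s', hX', hp, hps, hs'⟩ := K232.RootCov.exists_root t hN
  have hXn : genericPoint X ∉ ⋃ j, ((D j).support : Set X) := by
    rw [Set.mem_iUnion]
    rintro ⟨j, hj⟩
    exact K660.Ram.genericPoint_notMem_support (hD j) hj
  have hpη : p (genericPoint X') = genericPoint X := by
    obtain ⟨x, hx⟩ := p.surjective (genericPoint X)
    have h1 : p (genericPoint X') ⤳ genericPoint X := by
      rw [← hx]
      exact ((genericPoint_spec X').specializes trivial).map p.continuous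
    exact (h1.antisymm ((genericPoint_spec X).specializes trivial)).eq
  let T : Set X' := p ⁻¹' (⋃ j, ((D j).support : Set X))
  have hT : IsClosed T := (isClosed_iUnion_of_finite fun j => (D j).support.isClosed).preimage p.continuous
  have hT' : T ≠ Set.univ := by
    intro h
    apply hXn
    have h1 : genericPoint X' ∈ T := by rw [h]; trivial
    rw [← hpη]
    exact h1
  obtain ⟨Zb, zb, j, H, hZb, hzb, hH, hj, hjz⟩ := K415.ChowAlt.exists_compactification k z
    (Groth.Agent.CalgB.ProjField.exists_isAmple_of_isAffine Z)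
  obtain ⟨Y, g, ρ, A, r', D', hY, hg, hsm, hA, hgs, hdim, hρ, hρs, hcomm, hD', hD'i, hcov⟩ :=
    K415.ChowAlt.chowalt_of hAlt zb H hH j (p ≫ f) T hT hT'
  have hX₁ne : Nonempty (g ⁻¹ᵁ j.opensRange).toScheme := by
    obtain ⟨x⟩ := (inferInstance : Nonempty X')
    obtain ⟨y, hy⟩ := ρ.surjective x
    exact ⟨y⟩
  have hX₁ : IsIntegral (g ⁻¹ᵁ j.opensRange).toScheme := isIntegral_of_isOpenImmersion (g ⁻¹ᵁ j.opensRange).ι
  have hpf : ρ ≫ (p ≫ f) ≫ z = (g ⁻¹ᵁ j.opensRange).ι ≫ g ≫ zb := by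
    rw [← hjz, ← Category.assoc (p ≫ f) j zb, ← Category.assoc ρ, hcomm, Category.assoc]
  have hpf' : (ρ ≫ p) ≫ f ≫ z = (g ⁻¹ᵁ j.opensRange).ι ≫ g ≫ zb := by
    rw [← hpf]; simp only [Category.assoc]
  have hprop : IsProper (ρ ≫ p) := inferInstance
  obtain ⟨s, E, hE, hEi, hEs⟩ := exists_restrict (g ⁻¹ᵁ j.opensRange).ι (g ≫ zb) D' hD' hD'i
  have hπη : (ρ ≫ p) (genericPoint (g ⁻¹ᵁ j.opensRange).toScheme) = genericPoint X := by
    obtain ⟨x, hx⟩ := (ρ ≫ p).surjective (genericPoint X)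
    have h1 : (ρ ≫ p) (genericPoint (g ⁻¹ᵁ j.opensRange).toScheme) ⤳ genericPoint X := by
      rw [← hx]
      exact ((genericPoint_spec (g ⁻¹ᵁ j.opensRange).toScheme).specializes trivial).map (ρ ≫ p).continuous
    exact (h1.antisymm ((genericPoint_spec X).specializes trivial)).eq
  have hsmX : Smooth ((ρ ≫ p) ≫ f ≫ z) := by rw [hpf']; infer_instance
  have hlft : LocallyOfFiniteType ((ρ ≫ p) ≫ f ≫ z) := inferInstance
  have hN₁ : IsLocallyNoetherian (g ⁻¹ᵁ j.opensRange).toScheme := LocallyOfFiniteType.isLocallyNoetherian ((ρ ≫ p) ≫ f ≫ z)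
  have hqc : QuasiCompact ((ρ ≫ p) ≫ f ≫ z) := inferInstance
  have hC₁ : CompactSpace (g ⁻¹ᵁ j.opensRange).toScheme := QuasiCompact.compactSpace_of_compactSpace ((ρ ≫ p) ≫ f ≫ z)
  have hNoe : IsNoetherian (g ⁻¹ᵁ j.opensRange).toScheme := {}
  have hmult : ∀ j₀ : Fin r, ∃ c : Fin s → ℕ, (D j₀).comap (ρ ≫ p) = ∏ i, E i ^ c i := by
    intro j₀
    refine Groth.Agent.S1659.result _ ((D j₀).comap (ρ ≫ p)) (K660.Kol.isEff_comap_of_generic (ρ ≫ p) (hD j₀) (by
      rw [hπη]; exact K660.Ram.genericPoint_notMem_support (hD j₀))) s E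
      (fun i => K911.Ncd.isEff_of_isNCD hE i) hEi fun x hx => Set.mem_iUnion.2 (hEs x (hcov x ?_))
    have h1 := (K911.Ncd.mem_support_comap (D j₀) (ρ ≫ p) x).1 hx
    exact Set.mem_iUnion.2 ⟨j₀, h1⟩
  choose a ha using hmult
  refine ⟨(g ⁻¹ᵁ j.opensRange).toScheme, ρ ≫ p, ρ.appTop s', s, E, fun i j => a j i, hX₁, hprop, inferInstance, hsmX, ?_, ?_,
    ?_, ha⟩
  · have h1 : topologicalKrullDim (g ⁻¹ᵁ j.opensRange).toScheme = topologicalKrullDim Y :=
      K415.ChowAlt.dim_of_openImmersion k (g ≫ zb) (g ⁻¹ᵁ j.opensRange).ι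
    have h2 : topologicalKrullDim X' = topologicalKrullDim X := by
      rw [K31.FinInt.dim_eq_range p, Set.range_eq_univ.2 p.surjective]
      exact IsHomeomorph.topologicalKrullDim_eq _ (Homeomorph.Set.univ X).isHomeomorph
    rw [h1, hdim, h2]
  · have h3 : (ρ.appTop s') ^ N = ρ.appTop (s' ^ N) := (map_pow ρ.appTop.hom s' N).symm
    exact h3.trans (congrArg (fun z => ρ.appTop z) hs')
  · rw [hpf']; exact hE

end K232.RootAlt
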