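import Groth.Agent.CohqA.IntClosed
import Groth.Agent.Vanish.K31.FinInt
import Mathlib.AlgebraicGeometry.Morphisms.Finite
import Mathlib.AlgebraicGeometry.Noetherian
import Mathlib.RingTheory.AdjoinRoot
import Mathlib.AlgebraicGeometry.ResidueField

/-!
# Adjoining an `N`-th root of a function

`exists_root`: `X` integral, `t` a function on `X`: there is an integral `X'` finite and surjective over `X` on which `t`
is an `N`-th power.
-/

set_option autoImplicit false
universe u

open CategoryTheory CategoryTheory.Limits AlgebraicGeometry TopologicalSpace Opposite Polynomial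

namespace K232.RootCov

/-- The ring `R[S]/(S^N - t)`. -/
theorem exists_ring (R : CommRingCat.{u}) [Nontrivial R] (t : R) {N : ℕ} (hN : 1 ≤ N) :
    ∃ (B : CommRingCat.{u}) (φ : R ⟶ B) (s : B), s ^ N = φ t ∧ φ.hom.Finite ∧
      Function.Surjective (PrimeSpectrum.comap φ.hom) := by
  have hm : (X ^ N - C t : R[X]).Monic := monic_X_pow_sub_C t (by omega)
  have hfin : (algebraMap R (AdjoinRoot (X ^ N - C t))).Finite :=
    RingHom.finite_algebraMap.2 hm.finite_adjoinRoot
  refine ⟨CommRingCat.of (AdjoinRoot (X ^ N - C t)), CommRingCat.ofHom (algebraMap R (AdjoinRoot (X ^ N - C t))),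
    AdjoinRoot.root _, ?_, hfin, ?_⟩
  · have h := AdjoinRoot.eval₂_root (X ^ N - C t : R[X])
    rw [eval₂_sub, eval₂_pow, eval₂_X, eval₂_C, sub_eq_zero] at h
    exact h
  · refine RingHom.IsIntegral.comap_surjective hfin.to_isIntegral ((injective_iff_map_eq_zero _).2 fun a ha => ?_)
    by_contra h0
    have h1 : (X ^ N - C t : R[X]) ∣ C a := AdjoinRoot.mk_eq_zero.1 ha
    refine hm.not_dvd_of_natDegree_lt (by simpa using h0) ?_ h1
    rw [natDegree_C, natDegree_X_pow_sub_C]
    omega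

/-- Adjoining an `N`-th root of a function. -/
theorem exists_root {X : Scheme.{u}} [IsIntegral X] (t : Γ(X, ⊤)) {N : ℕ} (hN : 1 ≤ N) :
    ∃ (X' : Scheme.{u}) (p : X' ⟶ X) (s : Γ(X', ⊤)), IsIntegral X' ∧ IsFinite p ∧ Surjective p ∧
      s ^ N = p.app ⊤ t := by
  obtain ⟨B, φ, s, hs, hφ, hφs⟩ := exists_ring Γ(X, ⊤) t hN
  have h1 : IsFinite (Spec.map φ) := (IsFinite.SpecMap_iff φ).2 hφ
  have h2 : Surjective (Spec.map φ) := ⟨hφs⟩
  let q : pullback X.toSpecΓ (Spec.map φ) ⟶ X := pullback.fst X.toSpecΓ (Spec.map φ)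
  obtain ⟨η', hη'⟩ := q.surjective (genericPoint X)
  obtain ⟨X', i, hi, hX', hiη⟩ := Groth.Agent.CohqA.IntClosed.exists_integral η'
  refine ⟨X', i ≫ q, (i ≫ pullback.snd X.toSpecΓ (Spec.map φ)).appTop ((Scheme.ΓSpecIso B).inv s), hX',
    inferInstance, ⟨fun x => ?_⟩, ?_⟩
  · have hcl : IsClosed (Set.range (i ≫ q)) := (i ≫ q).isClosedMap.isClosed_range
    refine hcl.closure_subset ?_
    have h3 : genericPoint X ∈ Set.range (i ≫ q) := ⟨genericPoint X', by
      rw [Scheme.Hom.comp_apply, hiη, hη']⟩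
    exact (((genericPoint_spec X).specializes (Set.mem_univ x)).mem_closed isClosed_closure (subset_closure h3))
  · rw [← map_pow, ← map_pow, hs]
    have h3 : (pullback.fst X.toSpecΓ (Spec.map φ) ≫ X.toSpecΓ) =
      pullback.snd X.toSpecΓ (Spec.map φ) ≫ Spec.map φ := pullback.condition
    have h4 : (Scheme.ΓSpecIso B).inv (φ t) = (Spec.map φ).appTop ((Scheme.ΓSpecIso Γ(X, ⊤)).inv t) := by
      exact congr($(Scheme.ΓSpecIso_inv_naturality φ) t)
    rw [h4]
    have h5 : (i ≫ q).appTop t = ((i ≫ q) ≫ X.toSpecΓ).appTop ((Scheme.ΓSpecIso Γ(X, ⊤)).inv t) := by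
      rw [Scheme.Hom.comp_appTop (i ≫ q) X.toSpecΓ, CommRingCat.comp_apply]
      congr 1
      have h6 : X.toSpecΓ.appTop = (Scheme.ΓSpecIso Γ(X, ⊤)).hom := Scheme.toSpecΓ_appTop X
      rw [h6, ← CommRingCat.comp_apply, Iso.inv_hom_id]
      rfl
    refine Eq.trans ?_ h5.symm
    rw [Category.assoc, show q ≫ X.toSpecΓ = _ from h3, ← Category.assoc, Scheme.Hom.comp_appTop _ (Spec.map φ),
      CommRingCat.comp_apply]

end K232.RootCov
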