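import Groth.Agent.Fga.GenIso
import Groth.Agent.Divis.StalkMod
import Groth.Agent.Vanish.K419.LogRamMain

/-!
# Splitting by a root

`π : X₁ ⟶ X`, `J : W ⟶ π_* W₁` and `T : π_* W₁ ⟶ W` with `J ≫ T = 𝟙`, `I` an ideal sheaf on `X`, `s` a function on `X₁`
such that `I J(W) ⊆ s W₁` and `s ∈ I O_{X₁}` locally on `X`.  Then `W ⊗ I` is a direct summand of `π_* W₁`, through
`β ↦ s⁻¹ J(β)` and `γ ↦ T(s γ)`.
-/

set_option autoImplicit false
set_option backward.isDefEq.respectTransparency false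

universe u

noncomputable section

open CategoryTheory CategoryTheory.Limits AlgebraicGeometry Opposite TopologicalSpace
open K680.FormHom Groth.Agent
open Groth.Agent.Sga67.Sec Groth.Agent.Sga67.LocBasis Groth.Agent.Sga67.LocBasisStalk

namespace K232.RootMaps

variable {X X₁ : Scheme.{u}}

/-- Multiplication by a global function, on sections. -/
theorem appS_mulHom (M : X.Modules) (v : Γ(X, ⊤)) (U : X.Opens) (m : Sec M U) :
    appS (Fga.GenIso.mulHom M v) U m = resO X (le_top : U ≤ ⊤) v • m := rfl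

/-- A morphism whose values are locally in the range of a monomorphism factors through it. -/
theorem exists_lift {M N W : X.Modules} (φ : M ⟶ N) [Mono φ] (J : W ⟶ N)
    (H : ∀ (U : X.Opens) (t : Sec W U) (x : X), x ∈ U → ∃ (V : X.Opens) (h : V ≤ U) (m : Sec M V), x ∈ V ∧
      res N h (appS J U t) = appS φ V m) :
    ∃ J' : W ⟶ M, J' ≫ φ = J := by
  have h1 : J ≫ cokernel.π φ = 0 := by
    apply Groth.Agent.Sga67.Sec.hom_ext
    intro U t
    rw [appS_zero]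
    apply eq_of_locally (cokernel φ)
    intro x hx
    obtain ⟨V, h, m, hxV, hm⟩ := H U t x hx
    refine ⟨V, h, hxV, ?_⟩
    rw [appS_comp, ← appS_res, hm, ← appS_comp, cokernel.condition, appS_zero, map_zero]
  let l := (Abelian.monoIsKernelOfCokernel _ (cokernelIsCokernel φ)).lift (KernelFork.ofι J h1)
  exact ⟨l, (Abelian.monoIsKernelOfCokernel _ (cokernelIsCokernel φ)).fac (KernelFork.ofι J h1)
    WalkingParallelPair.zero⟩

/-- A morphism to a push-forward whose values are locally in the range of a monomorphism factors through it. -/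
theorem exists_lift_push (π : X₁ ⟶ X) {W : X.Modules} {M N : X₁.Modules} (φ : M ⟶ N) [Mono φ]
    (J : W ⟶ (Scheme.Modules.pushforward π).obj N)
    (H : ∀ (U : X.Opens) (t : Sec W U) (y : X₁), y ∈ π ⁻¹ᵁ U → ∃ (V : X₁.Opens) (h : V ≤ π ⁻¹ᵁ U) (m : Sec M V),
      y ∈ V ∧ res N h (im π J t) = appS φ V m) :
    ∃ J' : W ⟶ (Scheme.Modules.pushforward π).obj M, J' ≫ (Scheme.Modules.pushforward π).map φ = J := by
  apply K419.LogRamMain.exists_lift_pushforward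
  apply Groth.Agent.Sga67.Sec.hom_ext
  intro U t
  rw [appS_zero]
  apply eq_of_locally (cokernel φ) (U := π ⁻¹ᵁ U)
  intro y hy
  obtain ⟨V, h, m, hyV, hm⟩ := H U t y hy
  refine ⟨V, h, hyV, ?_⟩
  have h6 : im π (J ≫ (Scheme.Modules.pushforward π).map (cokernel.π φ)) t =
      appS (cokernel.π φ) (π ⁻¹ᵁ U) (im π J t) := rfl
  refine (congrArg (res _ h) h6).trans ?_
  rw [← appS_res, hm, ← appS_comp, cokernel.condition, appS_zero]
  exact (map_zero (res _ h)).symm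

/-- Functions which do not vanish on an integral scheme are regular on locally free modules. -/
theorem mono_mulHom [IsIntegral X₁] {W₁ : X₁.Modules} (hW₁ : FlatMod.IsFinLocFree W₁) (s : Γ(X₁, ⊤)) (hs : s ≠ 0) :
    Mono (Fga.GenIso.mulHom W₁ s) := by
  refine Preadditive.mono_of_cancel_zero _ fun {Z} g hg => ?_
  apply Groth.Agent.Sga67.Sec.hom_ext
  intro U z
  have h1 : resO X₁ (le_top : U ≤ ⊤) s • appS g U z = 0 := by
    have h2 := congrArg (fun φ => appS φ U z) hg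
    exact h2
  rw [appS_zero]
  apply eq_of_locally W₁
  intro y hy
  have h3 : gerO y (U := ⊤) trivial s • ger W₁ y hy (appS g U z) = 0 := by
    rw [← gerO_res (le_top : U ≤ ⊤) y hy, ← ger_smul, h1, ger_zero]
  have h4 : gerO y (U := ⊤) trivial s ≠ 0 := by
    intro h0
    apply hs
    refine (injective_iff_map_eq_zero _).1 (AlgebraicGeometry.germ_injective_of_isIntegral X₁ (U := (⊤ : X₁.Opens)) y trivial) s ?_
    exact h0
  obtain ⟨hf1, hf2⟩ := Groth.Agent.Divis.StalkMod.finite_free_stalk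
    (Groth.Agent.PerfA.QCohEpi.isQCoh_of_isFinLocFree hW₁) hW₁ y
  have h5 : ger W₁ y hy (appS g U z) = ger W₁ y hy 0 := by
    rw [ger_zero]
    exact (smul_eq_zero.1 h3).resolve_left h4
  obtain ⟨V, h, hyV, e⟩ := exists_res_eq W₁ y hy _ _ h5
  exact ⟨V, h, hyV, e⟩

/-- **Splitting by a root.** -/
theorem exists_retract (π : X₁ ⟶ X) [IsIntegral X₁] {W : X.Modules} {W₁ : X₁.Modules}
    (hW : FlatMod.IsFinLocFree W) (hW₁ : FlatMod.IsFinLocFree W₁)
    (J : W ⟶ (Scheme.Modules.pushforward π).obj W₁) (T : (Scheme.Modules.pushforward π).obj W₁ ⟶ W)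
    (hJT : J ≫ T = 𝟙 W) (I : X.IdealSheafData) (s : Γ(X₁, ⊤)) (hs : s ≠ 0)
    (h1 : ∀ y : X₁, ∃ (U : X.affineOpens) (hy : π y ∈ U.1) (h : Γ(X, U.1)), I.ideal U = Ideal.span {h} ∧
      ∀ β : W.presheaf.stalk (π y), ∃ ω : W₁.presheaf.stalk y,
        pst π J y (gerO (π y) hy h • β) = gerO y (U := ⊤) trivial s • ω)
    (h2 : ∀ x : X, ∃ (U : X.affineOpens) (h : Γ(X, U.1)) (s' : Γ(X₁, π ⁻¹ᵁ U.1)), x ∈ U.1 ∧
      I.ideal U = Ideal.span {h} ∧ resO X₁ (le_top : π ⁻¹ᵁ U.1 ≤ ⊤) s = (π.app U.1 h : Γ(X₁, π ⁻¹ᵁ U.1)) * s') :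
    ∃ (i : CohB1.tensorMod W (ClSub.idealMod I) ⟶ (Scheme.Modules.pushforward π).obj W₁)
      (r : (Scheme.Modules.pushforward π).obj W₁ ⟶ CohB1.tensorMod W (ClSub.idealMod I)), i ≫ r = 𝟙 _ := by
  have hm := mono_mulHom hW₁ s hs
  have hI := K913.TauAff.mono_inclTwist I hW
  -- the inclusion
  obtain ⟨i, hi⟩ : ∃ i : CohB1.tensorMod W (ClSub.idealMod I) ⟶ (Scheme.Modules.pushforward π).obj W₁,
      i ≫ (Scheme.Modules.pushforward π).map (Fga.GenIso.mulHom W₁ s) = LogNCD.inclTwist W I ≫ J := by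
    apply exists_lift_push
    intro U t y hy
    obtain ⟨U₀, hyU₀, h, hI₀, hβ⟩ := h1 y
    obtain ⟨U', hyU', hU'⟩ := K660.SubTw.exists_affine_le (π y) (U ⊓ U₀.1) ⟨hy, hyU₀⟩
    have hU'U : U'.1 ≤ U := hU'.trans inf_le_left
    have hU'U₀ : U'.1 ≤ U₀.1 := hU'.trans inf_le_right
    obtain ⟨e', he'⟩ := (K913.TauAff.range_inclTwist I hW U' _ (K660.SubTw.ideal_resO I hU'U₀ h hI₀)
      (appS (LogNCD.inclTwist W I) U'.1 (res _ hU'U t))).1 ⟨_, rfl⟩
    obtain ⟨ω, hω⟩ := hβ (ger W (π y) hyU' e')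
    obtain ⟨V₀, hyV₀, m, rfl⟩ := exists_ger W₁ y ω
    have h3 : ger W₁ (U := π ⁻¹ᵁ U) y hy (im π (LogNCD.inclTwist W I ≫ J) t) =
        gerO y (U := ⊤) trivial s • ger W₁ y hyV₀ m := by
      rw [← hω]
      have h4 : im π (LogNCD.inclTwist W I ≫ J) t = im π J (appS (LogNCD.inclTwist W I) U t) := rfl
      rw [h4]
      have h5 : ger W₁ (U := π ⁻¹ᵁ U) y hy (im π J (appS (LogNCD.inclTwist W I) U t)) =
          pst π J y (ger W (π y) hy (appS (LogNCD.inclTwist W I) U t)) :=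
        (pst_germ π J y U hy _).symm
      rw [h5, ← ger_res W hU'U (π y) hyU', ← appS_res, he', ger_smul, gerO_res]
    have hyO : y ∈ V₀ ⊓ π ⁻¹ᵁ U := ⟨hyV₀, hy⟩
    obtain ⟨O, hO, hyO', h5⟩ := exists_res_eq W₁ y hyO
      (res W₁ (inf_le_right : V₀ ⊓ π ⁻¹ᵁ U ≤ π ⁻¹ᵁ U) (im π (LogNCD.inclTwist W I ≫ J) t))
      (resO X₁ (le_top : V₀ ⊓ π ⁻¹ᵁ U ≤ ⊤) s • res W₁ (inf_le_left : V₀ ⊓ π ⁻¹ᵁ U ≤ V₀) m) (by
        rw [ger_res, ger_smul, gerO_res, ger_res]
        exact h3)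
    refine ⟨O, hO.trans inf_le_right, res W₁ (hO.trans inf_le_left) m, hyO', ?_⟩
    rw [Groth.Agent.Sga67.Sec.res_res, res_smul, resO_resO, Groth.Agent.Sga67.Sec.res_res] at h5
    rw [h5, appS_mulHom]
  -- the retraction
  obtain ⟨r, hr⟩ : ∃ r : (Scheme.Modules.pushforward π).obj W₁ ⟶ CohB1.tensorMod W (ClSub.idealMod I),
      r ≫ LogNCD.inclTwist W I = (Scheme.Modules.pushforward π).map (Fga.GenIso.mulHom W₁ s) ≫ T := by
    apply exists_lift
    intro U t x hx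
    obtain ⟨U₀, h, s', hxU₀, hI₀, hs'⟩ := h2 x
    obtain ⟨U', hxU', hU'⟩ := K660.SubTw.exists_affine_le x (U ⊓ U₀.1) ⟨hx, hxU₀⟩
    have hU'U : U'.1 ≤ U := hU'.trans inf_le_left
    have hU'U₀ : U'.1 ≤ U₀.1 := hU'.trans inf_le_right
    let t' : Sec W₁ (π ⁻¹ᵁ U) := t
    let m : Sec ((Scheme.Modules.pushforward π).obj W₁) U'.1 :=
      (resO X₁ (Scheme.Hom.preimage_mono π hU'U₀) s' • res W₁ (Scheme.Hom.preimage_mono π hU'U) t' :
        Sec W₁ (π ⁻¹ᵁ U'.1))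
    have h3 : res W hU'U (appS ((Scheme.Modules.pushforward π).map (Fga.GenIso.mulHom W₁ s) ≫ T) U t) =
        resO X hU'U₀ h • appS T U'.1 m := by
      rw [← appS_res, appS_comp, ← map_smul]
      congr 1
      have h4 : appS ((Scheme.Modules.pushforward π).map (Fga.GenIso.mulHom W₁ s)) U'.1
          (res ((Scheme.Modules.pushforward π).obj W₁) hU'U t) =
          resO X₁ (le_top : π ⁻¹ᵁ U'.1 ≤ ⊤) s • res W₁ (Scheme.Hom.preimage_mono π hU'U) t' := rfl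
      have h5 : (resO X hU'U₀ h • m : Sec ((Scheme.Modules.pushforward π).obj W₁) U'.1) =
          (π.app U'.1 (resO X hU'U₀ h) : Γ(X₁, π ⁻¹ᵁ U'.1)) •
            (resO X₁ (Scheme.Hom.preimage_mono π hU'U₀) s' • res W₁ (Scheme.Hom.preimage_mono π hU'U) t' :
              Sec W₁ (π ⁻¹ᵁ U'.1)) := rfl
      rw [h4, h5, smul_smul]
      congr 1
      have h6 : resO X₁ (le_top : π ⁻¹ᵁ U'.1 ≤ ⊤) s =
          resO X₁ (Scheme.Hom.preimage_mono π hU'U₀) (resO X₁ (le_top : π ⁻¹ᵁ U₀.1 ≤ ⊤) s) := by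
        rw [resO_resO]
      rw [h6, hs', map_mul]
      congr 1
      exact (congr($(π.naturality (homOfLE hU'U₀).op) h)).symm
    obtain ⟨w, hw⟩ := (K913.TauAff.range_inclTwist I hW U' _ (K660.SubTw.ideal_resO I hU'U₀ h hI₀)
      (res W hU'U (appS ((Scheme.Modules.pushforward π).map (Fga.GenIso.mulHom W₁ s) ≫ T) U t))).2 ⟨_, h3⟩
    exact ⟨U'.1, hU'U, w, hxU', hw.symm⟩
  refine ⟨i, r, ?_⟩
  rw [← cancel_mono (LogNCD.inclTwist W I), Category.assoc, hr, reassoc_of% hi, hJT, Category.comp_id,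
    Category.id_comp]

end K232.RootMaps
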