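import Groth.Agent.Vanish.K232.RootAlg
import Groth.Agent.Vanish.K232.RootMaps
import Groth.Agent.Vanish.K562.DimF
import Groth.Agent.S9829

/-!
# The sheaf `ω_X(-[D/N])` is a direct summand of `π_* ω_{X₁}`, `X₁` containing an `N`-th root

`main`: `π : X₁ ⟶ X` surjective between smooth schemes, `D` a normal crossing divisor on `X`, `E` one on `X₁`,
`π^{-1} D_j = ∏ E_i^{a_ij}`, `t` a function on `X` with `(t) = ∏ D_j^{α_j}`, `s` a function on `X₁` with `s^N = π^# t`,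
`J : W ⟶ π_* W₁` the pull-back of top forms and `J ≫ T = 𝟙`.  Then `W ⊗ ∏ D_j^{α_j / N}` is a direct summand of `π_* W₁`.
-/

set_option autoImplicit false
set_option backward.isDefEq.respectTransparency false

universe u

noncomputable section

open CategoryTheory CategoryTheory.Limits AlgebraicGeometry Opposite TopologicalSpace OmegaSh
open K583.AlgUniv K583.StalkDer K583.DerFunct K476.ExtStalk K680.FormHom K680.FormAlg
open Groth.Agent.CycB.ModStalk K475.GenStalk K680.FormMain K680.FormLog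
open Groth.Agent.Sga67.Sec Groth.Agent.Sga67.LocBasis Groth.Agent.Sga67.LocBasisStalk
open K922.DSec K922.Coord K922.Chart K419.LogRam

namespace K232.RootDvd

variable {k : Type u} [Field k] {X X₁ : Scheme.{u}} {f : X ⟶ Spec (CommRingCat.of k)}
  (π : X₁ ⟶ X) {Ω : X.Modules} {d : Der f Ω} {Ω₁ : X₁.Modules} {n : ℕ} {W : X.Modules}
  {W₁ : X₁.Modules} {r s : ℕ} {D : Fin r → X.IdealSheafData} {E : Fin s → X₁.IdealSheafData}

theorem gerO_eq {X : Scheme.{u}} {U : X.Opens} (x : X) (hx : x ∈ U) (a : Γ(X, U)) :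
    gerO x hx a = (X.presheaf.germ U x hx).hom a := rfl

/-- Local equation of a product of powers, in a chart. -/
theorem ideal_prod_chart {m : ℕ} {U : X.affineOpens} (c : Chart f D U.1 m) (x : Fin r → ℕ) :
    (∏ j, D j ^ x j).ideal U = Ideal.span {∏ j, c.g j ^ x j} := by
  rw [K31.NcdRad.ideal_prod, ← Ideal.prod_span_singleton]
  refine Finset.prod_congr rfl fun i _ => ?_
  rw [Scheme.IdealSheafData.ideal_pow, Pi.pow_apply, c.ideal i U le_rfl, resO_self, Ideal.span_singleton_pow]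

/-- The equations of the pull-backs. -/
theorem associated_pull [IsIntegral X₁] (a : Fin s → Fin r → ℕ) (ha : ∀ j, (D j).comap π = ∏ i, E i ^ a i j)
    {U : X.affineOpens} {m : ℕ} (c : Chart f D U.1 m) {U₁ : X₁.affineOpens} {m₁ : ℕ}
    (c₁ : Chart (π ≫ f) E U₁.1 m₁) (e : U₁.1 ≤ π ⁻¹ᵁ U.1) (y : X₁) (hy : y ∈ U₁.1) (x : Fin r → ℕ) :
    Associated (π.stalkMap y (gerO (π y) (e hy) (∏ j, c.g j ^ x j)))
      (∏ i, gerO y hy (c₁.g i) ^ (∑ j, a i j * x j)) := by
  have hN : Nonempty U₁.1 := ⟨⟨y, hy⟩⟩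
  have hj : ∀ j, Associated (π.stalkMap y (gerO (π y) (e hy) (c.g j))) (∏ i, gerO y hy (c₁.g i) ^ a i j) := by
    intro j
    have h1 : (D j).ideal U = Ideal.span {c.g j} := by rw [c.ideal j U le_rfl, resO_self]
    have h2 : ((D j).comap π).ideal U₁ = Ideal.span {(π.appLE U.1 U₁.1 e).hom (c.g j)} := by
      rw [Groth.Agent.Divis.IdealComap.ideal_comap _ π U U₁ e, h1, Ideal.map_span, Set.image_singleton]
    have h3 : ((D j).comap π).ideal U₁ = Ideal.span {∏ i, c₁.g i ^ a i j} := by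
      rw [ha, ideal_prod_chart c₁]
    have h4 : Associated ((π.appLE U.1 U₁.1 e).hom (c.g j)) (∏ i, c₁.g i ^ a i j) := by
      rw [← Ideal.span_singleton_eq_span_singleton, ← h2, h3]
    have h5 : π.stalkMap y (gerO (π y) (e hy) (c.g j)) = gerO y hy ((π.appLE U.1 U₁.1 e).hom (c.g j)) := by
      have h6 : gerO y hy ((π.appLE U.1 U₁.1 e).hom (c.g j)) = gerO y (e hy) (π.app U.1 (c.g j)) :=
        gerO_res e y hy (π.app U.1 (c.g j))
      rw [h6]
      exact Scheme.Hom.germ_stalkMap_apply π U.1 y (e hy) (c.g j)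
    rw [h5]
    have h6 := h4.map (X₁.presheaf.germ U₁.1 y hy).hom
    simp only [map_prod, map_pow] at h6
    exact h6
  have h1 : π.stalkMap y (gerO (π y) (e hy) (∏ j, c.g j ^ x j)) =
      ∏ j, (π.stalkMap y (gerO (π y) (e hy) (c.g j))) ^ x j := by
    simp only [gerO_eq, map_prod, map_pow]
  have h2 : ∏ i, gerO y hy (c₁.g i) ^ (∑ j, a i j * x j) = ∏ j, (∏ i, gerO y hy (c₁.g i) ^ a i j) ^ x j := by
    simp only [← Finset.prod_pow, ← pow_mul]
    rw [Finset.prod_comm]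
    refine Finset.prod_congr rfl fun i _ => ?_
    rw [Finset.prod_pow_eq_pow_sum]
  rw [h1, h2]
  exact Associated.prod _ _ _ fun j _ => (hj j).pow_pow

theorem main [IsIntegral X] [IsIntegral X₁] [Smooth f] [Smooth (π ≫ f)] [Surjective π]
    (hd : IsUniversal d) {d₁ : Der (π ≫ f) Ω₁} (hd₁ : IsUniversal d₁)
    (hr : FlatMod.IsFinLocFreeOfRank n Ω) (hr₁ : FlatMod.IsFinLocFreeOfRank n Ω₁)
    (hW : ExtPow.IsExtPow n Ω W) (hW₁ : ExtPow.IsExtPow n Ω₁ W₁)
    {J : W ⟶ (Scheme.Modules.pushforward π).obj W₁} (hJ : IsPull π (psi π hd d₁) hW hW₁ J)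
    (T : (Scheme.Modules.pushforward π).obj W₁ ⟶ W) (hJT : J ≫ T = 𝟙 W)
    (hD : LogNCD.IsNCD D f) (hE : LogNCD.IsNCD E (π ≫ f))
    (a : Fin s → Fin r → ℕ) (ha : ∀ j, (D j).comap π = ∏ i, E i ^ a i j)
    (α : Fin r → ℕ) {N : ℕ} (hN : 1 ≤ N) (t : Γ(X, ⊤)) (s₀ : Γ(X₁, ⊤)) (hst : s₀ ^ N = π.app ⊤ t) (ht0 : t ≠ 0)
    (ht : ∀ U : X.affineOpens, (∏ j, D j ^ α j).ideal U = Ideal.span {resO X (le_top : U.1 ≤ ⊤) t}) :
    ∃ (i : CohB1.tensorMod W (ClSub.idealMod (∏ j, D j ^ (α j / N))) ⟶ (Scheme.Modules.pushforward π).obj W₁)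
      (r : (Scheme.Modules.pushforward π).obj W₁ ⟶ CohB1.tensorMod W (ClSub.idealMod (∏ j, D j ^ (α j / N)))),
      i ≫ r = 𝟙 _ := by
  have hWf : FlatMod.IsFinLocFree W :=
    Groth.Agent.Sga67.LocBasis.isFinLocFree_of_isExtPow (fun x => by
      obtain ⟨U, hx, e⟩ := hr x
      exact ⟨U, n, hx, e⟩) hW
  have hW₁f : FlatMod.IsFinLocFree W₁ :=
    Groth.Agent.Sga67.LocBasis.isFinLocFree_of_isExtPow (fun x => by
      obtain ⟨U, hx, e⟩ := hr₁ x
      exact ⟨U, n, hx, e⟩) hW₁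
  have hreg : ∀ y : X₁, IsRegularLocalRing (X₁.presheaf.stalk y) := fun y =>
    Groth.Agent.K477.NormalGeo.isRegular_of_mem_smoothLocus (π ≫ f) y
      (by rw [(π ≫ f).smoothLocus_eq_top]; trivial)
  have hic : ∀ y : X₁, IsIntegrallyClosed (X₁.presheaf.stalk y) := fun y => by
    have := hreg y
    exact Groth.Agent.S9829.result _
  have hnorm : Pi1.IsNormalScheme X₁ := fun y => ⟨inferInstance, hic y⟩
  have hπη : π (genericPoint X₁) = genericPoint X := by
    obtain ⟨x, hx⟩ := π.surjective (genericPoint X)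
    have h1 : π (genericPoint X₁) ⤳ genericPoint X := by
      rw [← hx]
      exact ((genericPoint_spec X₁).specializes trivial).map π.continuous
    exact (h1.antisymm ((genericPoint_spec X).specializes trivial)).eq
  -- `t` in a chart
  have htu : ∀ {U : X.affineOpens} {m : ℕ} (c : Chart f D U.1 m), Nonempty U.1 →
      Associated (resO X (le_top : U.1 ≤ ⊤) t) (∏ j, c.g j ^ α j) := by
    intro U m c hne
    rw [← Ideal.span_singleton_eq_span_singleton, ← ht U, ideal_prod_chart c]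
  have hs0 : s₀ ≠ 0 := by
    rintro rfl
    rw [zero_pow (by omega)] at hst
    apply ht0
    have h1 : gerO (X := X) (π (genericPoint X₁)) (U := ⊤) trivial t = 0 := by
      have h2 : π.stalkMap (genericPoint X₁) (gerO (π (genericPoint X₁)) (U := ⊤) trivial t) = 0 := by
        have h3 : π.stalkMap (genericPoint X₁) (gerO (π (genericPoint X₁)) (U := ⊤) trivial t) =
            gerO (genericPoint X₁) (U := ⊤) trivial (π.app ⊤ t) :=
          Scheme.Hom.germ_stalkMap_apply π ⊤ (genericPoint X₁) trivial t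
        rw [h3, ← hst, gerO_eq, map_zero]
      have hK : IsField (X.presheaf.stalk (π (genericPoint X₁))) := by
        rw [hπη]
        exact Field.toIsField X.functionField
      let _ := hK.toField
      exact (map_eq_zero_iff _ (π.stalkMap (genericPoint X₁)).hom.injective).1 h2
    exact (injective_iff_map_eq_zero _).1 (AlgebraicGeometry.germ_injective_of_isIntegral X
      (U := (⊤ : X.Opens)) (π (genericPoint X₁)) trivial) t h1
  refine K232.RootMaps.exists_retract π hWf hW₁f J T hJT _ s₀ hs0 ?_ ?_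
  · intro y
    obtain ⟨U, m, c, hyU, -⟩ := exists_chart hD (O := ⊤) (x := π y) trivial
    obtain ⟨U₁, m₁, c₁, hyU₁, e⟩ := exists_chart hE (O := π ⁻¹ᵁ U.1) (x := y) hyU
    refine ⟨U, hyU, ∏ j, c.g j ^ (α j / N), ideal_prod_chart c _, fun β => ?_⟩
    have := hic y
    obtain ⟨ω, hω⟩ := exists_dvd π hd hd₁ hr hr₁ hW hW₁ hJ a ha (fun i => (∑ j, a i j) - 1)
      (fun i => by
        rcases Nat.eq_zero_or_pos (∑ j, a i j) with h | h
        · left; omega
        · right; omega) c c₁ e y hyU₁ β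
    have h1 : Associated (gerO y (U := ⊤) trivial s₀ ^ N) (∏ i, gerO y hyU₁ (c₁.g i) ^ (∑ j, a i j * α j)) := by
      refine Associated.trans ?_ (associated_pull π a ha c c₁ e y hyU₁ α)
      have h2 : gerO y (U := ⊤) trivial s₀ ^ N = π.stalkMap y (gerO (π y) (U := ⊤) trivial t) := by
        have h3 : π.stalkMap y (gerO (π y) (U := ⊤) trivial t) =
            gerO y (U := ⊤) trivial (π.app ⊤ t) :=
          Scheme.Hom.germ_stalkMap_apply π ⊤ y trivial t
        rw [h3, ← hst, gerO_eq, gerO_eq, map_pow]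
      rw [h2, ← gerO_res (le_top : U.1 ≤ ⊤) (π y) hyU t]
      have h4 := ((htu c ⟨⟨π y, hyU⟩⟩).map (X.presheaf.germ U.1 (π y) hyU).hom).map (π.stalkMap y).hom
      exact h4
    obtain ⟨v, hv⟩ := h1.symm
    have h2 : gerO y (U := ⊤) trivial s₀ ∣ ∏ i, gerO y hyU₁ (c₁.g i) ^
        ((∑ j, a i j * (α j / N)) + ((∑ j, a i j) - 1)) := by
      refine K232.RootAlg.dvd_of_pow_eq _ (isUnit_or_prime hd₁ c₁ y hyU₁)
        (fun i j hij hp => not_dvd_germ hd₁ c₁ y hyU₁ hij hp.not_isUnit) hN _ (v : X₁.presheaf.stalk y) v.isUnit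
        (fun i => ∑ j, a i j * α j) ?_ _ (fun i hi => K232.RootAlg.num (a i) α hN hi)
      rw [← hv, mul_comm]
    obtain ⟨z, hz⟩ := h2
    obtain ⟨w, hw⟩ := (associated_pull π a ha c c₁ e y hyU₁ (fun j => α j / N)).symm
    refine ⟨((w : X₁.presheaf.stalk y) * z) • ω, ?_⟩
    rw [pst_smul, hω, ← hw, smul_smul, smul_smul]
    congr 1
    have h3 : gerO y hyU₁ (∏ i, c₁.g i ^ ((∑ j, a i j) - 1)) = ∏ i, gerO y hyU₁ (c₁.g i) ^ ((∑ j, a i j) - 1) := by
      simp only [gerO_eq, map_prod, map_pow]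
    rw [h3]
    simp only [pow_add, Finset.prod_mul_distrib] at hz
    rw [mul_comm _ (w : X₁.presheaf.stalk y), mul_assoc, hz]
    ring
  · intro x
    obtain ⟨U, m, c, hxU, -⟩ := exists_chart hD (O := ⊤) (x := x) trivial
    have hU : Nonempty U.1 := ⟨⟨x, hxU⟩⟩
    have hU₁ : Nonempty (π ⁻¹ᵁ U.1) := K562.DimF.nonempty_preimage π hπη U.1
    have := K562.DimF.isIntegrallyClosed_app hnorm (π ⁻¹ᵁ U.1)
    refine ⟨U, ∏ j, c.g j ^ (α j / N), ?_⟩
    have h1 : (π.app U.1 (∏ j, c.g j ^ (α j / N)) : Γ(X₁, π ⁻¹ᵁ U.1)) ∣ resO X₁ (le_top : π ⁻¹ᵁ U.1 ≤ ⊤) s₀ := by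
      rw [← IsIntegrallyClosed.pow_dvd_pow_iff (n := N) (by omega)]
      have h2 : (resO X₁ (le_top : π ⁻¹ᵁ U.1 ≤ ⊤) s₀) ^ N = π.app U.1 (resO X (le_top : U.1 ≤ ⊤) t) := by
        rw [← map_pow, hst]
        exact congr($(π.naturality (homOfLE (le_top : U.1 ≤ ⊤)).op) t).symm
      rw [h2]
      obtain ⟨v, hv⟩ := (htu c hU).symm
      rw [← hv, map_mul, ← map_pow]
      refine Dvd.dvd.mul_right (map_dvd _ ?_) _
      rw [← Finset.prod_pow]
      refine Finset.prod_dvd_prod_of_dvd _ _ fun j _ => ?_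
      rw [← pow_mul]
      exact pow_dvd_pow _ (Nat.div_mul_le_self _ _)
    obtain ⟨s', hs'⟩ := h1
    exact ⟨s', hxU, ideal_prod_chart c _, hs'⟩

end K232.RootDvd
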