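import Groth.Agent.Vanish.K232.RootRow
import Groth.Agent.Vanish.K660.GR
import Groth.Agent.Vanish.K910.Split

/-!
# `R^b f_* ω_X(-[D/N]) = 0` for `f` birational: assembly from `K660.GR` and `K910.Split`
-/

set_option autoImplicit false
set_option backward.isDefEq.respectTransparency false

universe u

open CategoryTheory CategoryTheory.Limits AlgebraicGeometry TopologicalSpace Opposite

namespace K232.RootFin

open Groth.Agent Groth.Agent.Vanish K232.RootMain K909.AltInterface K660.KolUp

theorem gr (k : Type u) [Field k] [IsAlgClosed k] [CharZero k] (hAlt : Alt k) (hDesc : Desc k) (hEV : EV k) : GR k := by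
  intro X₁ X _ _ x _ _ _ π _ _ _ n hn₁ hn W₁ hW₁ _ q hq
  exact K660.GR.gr hAlt hDesc hEV x π n hn hn₁ hW₁ q hq

theorem split (k : Type u) [Field k] [CharZero k] : Split k := by
  intro X₁ X _ _ x _ π _ _ n _ _ hn₁ hn W W₁ hW hW₁
  obtain ⟨J, hJ⟩ := K680.FormMain.exists_isPull π
    (K680.FormMain.psi π (S5005.result x) (OmegaSh.dOmega (π ≫ x))) hW hW₁
  obtain ⟨r, hr⟩ := K910.Split.split_isPull n x π hW hW₁ hJ
  exact ⟨J, r, hJ, hr⟩

end K232.RootFin
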