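import Groth.Agent.Vanish.K232.RootAlt
import Groth.Agent.Vanish.K232.RootDvd
import Groth.Agent.Vanish.K31.HPushNat
import Groth.Agent.Coh.K415.LerayGen
import Groth.Agent.Krr.H497.Bridge
import Groth.Agent.Picfga.CurveRelDim
import Groth.Agent.Dcoh.DerSch
import Groth.Agent.Dual.H366.ExtQCoh

/-!
# `R^b f_* ω_X(-[D/N]) = 0`, affine base

The vanishing of `H^b(X, ω_X(-[D/N]))` for `f : X ⟶ Z` proper surjective, `Z` affine, `dim X = dim Z`, `D = f^*(τ)`, from
(GR) vanishing of `R^q π_* ω` for `π` generically finite, and (SPLIT) splitting of `ω_X ⟶ π_* ω_{X₁}`.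
-/

set_option autoImplicit false
set_option backward.isDefEq.respectTransparency false

universe u

open CategoryTheory CategoryTheory.Limits AlgebraicGeometry TopologicalSpace Opposite

namespace K232.RootMain

open Groth.Agent Groth.Agent.Vanish

/-- (GR) the higher direct images of the canonical sheaf under a generically finite proper morphism vanish. -/
def GR (k : Type u) [Field k] : Prop :=
  ∀ {X₁ X : Scheme.{u}} [IsIntegral X₁] [IsIntegral X] (x : X ⟶ Spec (CommRingCat.of k)) [IsSeparated x]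
    [LocallyOfFiniteType x] [CompactSpace X] (π : X₁ ⟶ X) [IsProper π] [Surjective π] [Smooth (π ≫ x)] (n : ℕ),
    topologicalKrullDim X₁ = n → topologicalKrullDim X = n → ∀ (W₁ : X₁.Modules),
    ExtPow.IsExtPow n (Omega.sheaf (π ≫ x)) W₁ → ∀ [HasInjectiveResolutions X₁.Modules] (q : ℕ), 0 < q →
    IsZero ((Coh.Rpush π q).obj W₁)

/-- (SPLIT) the pull-back of top forms has a left inverse for an alteration. -/
def Split (k : Type u) [Field k] : Prop :=
  ∀ {X₁ X : Scheme.{u}} [IsIntegral X₁] [IsIntegral X] (x : X ⟶ Spec (CommRingCat.of k)) [IsSeparated x]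
    (π : X₁ ⟶ X) [IsProper π] [Surjective π] (n : ℕ) [SmoothOfRelativeDimension n x]
    [SmoothOfRelativeDimension n (π ≫ x)], topologicalKrullDim X₁ = n → topologicalKrullDim X = n →
    ∀ {W : X.Modules} {W₁ : X₁.Modules} (hW : ExtPow.IsExtPow n (Omega.sheaf x) W)
    (hW₁ : ExtPow.IsExtPow n (Omega.sheaf (π ≫ x)) W₁),
    ∃ (J : W ⟶ (Scheme.Modules.pushforward π).obj W₁) (T : (Scheme.Modules.pushforward π).obj W₁ ⟶ W),
      K680.FormMain.IsPull π (K680.FormMain.psi π (S5005.result x) (OmegaSh.dOmega (π ≫ x))) hW hW₁ J ∧ J ≫ T = 𝟙 W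

/-- Affine base. -/
theorem affine {k : Type u} [Field k] (hAlt : K909.AltInterface.Alt k) (hGR : GR k) (hSp : Split k)
    {X Z : Scheme.{u}} [IsIntegral X] [IsIntegral Z] [IsAffine Z] (z : Z ⟶ Spec (CommRingCat.of k))
    [LocallyOfFiniteType z] (f : X ⟶ Z) [IsProper f] [Surjective f] [Smooth (f ≫ z)] (n : ℕ)
    (hX : topologicalKrullDim X = n) (hZ : topologicalKrullDim Z = n) (t : Γ(X, ⊤)) (ht0 : t ≠ 0) {r : ℕ}
    (D : Fin r → X.IdealSheafData) (hD : LogNCD.IsNCD D (f ≫ z)) (α : Fin r → ℕ)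
    (ht : ∀ U : X.affineOpens, (∏ j, D j ^ α j).ideal U =
      Ideal.span {Groth.Agent.Sga67.Sec.resO X (le_top : U.1 ≤ ⊤) t}) (N : ℕ) (hN : 1 ≤ N)
    (W : X.Modules) (hW : ExtPow.IsExtPow n (Omega.sheaf (f ≫ z)) W) (b : ℕ) (hb : 0 < b) :
    Subsingleton (Coh.HH X (CohB1.tensorMod W (ClSub.idealMod (∏ j, D j ^ (α j / N)))) b) := by
  obtain ⟨X₁, π, s₀, s, E, a, hX₁, hπ, hπs, hsm, hdim, hs₀, hE, ha⟩ :=
    K232.RootAlt.exists_alt hAlt z f t hN D (fun j => K911.Ncd.isEff_of_isNCD hD j)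
  have hX₁n : topologicalKrullDim X₁ = n := by rw [hdim, hX]
  have i1 : SmoothOfRelativeDimension n (f ≫ z) :=
    Picfga.CurveRelDim.smoothOfRelativeDimension_of_topologicalKrullDim_eq k X (f ≫ z) n hX
  have i2 : SmoothOfRelativeDimension n (π ≫ f ≫ z) :=
    Picfga.CurveRelDim.smoothOfRelativeDimension_of_topologicalKrullDim_eq k X₁ (π ≫ f ≫ z) n hX₁n
  obtain ⟨W₁, hW₁⟩ : ∃ W₁, ExtPow.IsExtPow n (Omega.sheaf (π ≫ f ≫ z)) W₁ :=
    Dual.H366.ExtQCoh.exists_isExtPow n (K583.UnivAffine.isQuasicoherent_of_isUniversal (S5005.result (π ≫ f ≫ z)))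
  obtain ⟨J, T, hJ, hJT⟩ := hSp (f ≫ z) π n hX₁n hX hW hW₁
  obtain ⟨i, r', hir⟩ := K232.RootDvd.main π (S5005.result (f ≫ z)) (S5005.result (π ≫ f ≫ z))
    (Groth.Agent.Dual.H339.OmegaRank.isFinLocFreeOfRank_omega n (f ≫ z))
    (Groth.Agent.Dual.H339.OmegaRank.isFinLocFreeOfRank_omega n (π ≫ f ≫ z)) hW hW₁ hJ T hJT hD hE a ha α hN t s₀
    hs₀ ht0 ht
  refine K31.HNat.subsingleton_of_retract i r' hir ?_
  have hinj := Dcoh.DerSch.hasInjectiveResolutions X₁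
  have hfin : FlatMod.IsFinLocFree W₁ := Groth.Agent.Sga67.LocBasis.isFinLocFree_of_isExtPow (fun x => by
    obtain ⟨U, hx, e⟩ := Groth.Agent.Dual.H339.OmegaRank.isFinLocFreeOfRank_omega n (π ≫ f ≫ z) x
    exact ⟨U, n, hx, e⟩) hW₁
  have hq : Coh.IsQCoh W₁ := Groth.Agent.PerfA.QCohEpi.isQCoh_of_isFinLocFree hfin
  have hZsep : IsSeparated z := inferInstance
  have hXsep : IsSeparated (f ≫ z) := inferInstance
  have hXlft : LocallyOfFiniteType (f ≫ z) := inferInstance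
  have hXc : CompactSpace X := QuasiCompact.compactSpace_of_compactSpace f
  have h1 := hGR (f ≫ z) π n hX₁n hX W₁ hW₁
  have i3 : Smooth ((π ≫ f) ≫ z) := by rw [Category.assoc]; exact hsm
  have h2 := hGR z (π ≫ f) n hX₁n hZ W₁ (by rw [Category.assoc]; exact hW₁) b hb
  have h3 : Subsingleton (Coh.HH X₁ W₁ b) := (Krr.H497.Bridge.isZero_Rpush_iff_HH (π ≫ f) W₁ hq b).1 h2
  let _ : X₁.Over (Spec (CommRingCat.of k)) := ⟨π ≫ f ≫ z⟩
  let _ : X.Over (Spec (CommRingCat.of k)) := ⟨f ≫ z⟩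
  obtain ⟨e⟩ := K415.LerayGen.exists_equiv_of_isAcyc π k rfl W₁ (fun q hq => h1 q hq) b
  exact e.toEquiv.subsingleton

end K232.RootMain
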