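import Groth.Agent.Vanish.K232.RootMain
import Groth.Agent.Vanish.K88.Birat
import Groth.Agent.Variety.K419.StalkK
import Groth.Agent.Dual.H328.ClopenGlue
import Groth.Agent.Ega3B.TensRestrict
import Groth.Agent.CohqA.RpushLoc
import Groth.Agent.VarietyB.DimSch

/-!
# `R^b f_* ω_X(-[D/N]) = 0` for `f` birational

The globalization of `RootMain.affine`.
-/

set_option autoImplicit false
set_option backward.isDefEq.respectTransparency false

universe u

open CategoryTheory CategoryTheory.Limits AlgebraicGeometry TopologicalSpace Opposite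

namespace K232.RootRow

open Groth.Agent Groth.Agent.Vanish K232.RootMain
open Groth.Agent.Sga67.Sec

attribute [local instance] Curv2.resAlgebra

theorem dim_eq (k : Type u) [Field k] {X Z : Scheme.{u}} [X.Over (Spec (CommRingCat.of k))]
    [Z.Over (Spec (CommRingCat.of k))] [IsIntegral X] [IsIntegral Z]
    [LocallyOfFiniteType (X ↘ Spec (CommRingCat.of k))] [LocallyOfFiniteType (Z ↘ Spec (CommRingCat.of k))]
    (f : X ⟶ Z) (hf : f ≫ (Z ↘ Spec (CommRingCat.of k)) = X ↘ Spec (CommRingCat.of k))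
    (hbir : RadPt.IsBirational f) : topologicalKrullDim Z = topologicalKrullDim X := by
  rw [VarietyB.DimSch.topologicalKrullDim_eq_trd k (X := X), VarietyB.DimSch.topologicalKrullDim_eq_trd k (X := Z)]
  have hg := K88.Birat.gen_of_birational hbir
  have hb := (hbir.2 (genericPoint Z) (by rw [genericPoints_eq_singleton]; rfl)).2 (genericPoint X) hg
  rw [← hg]
  let φ : Z.residueField (f (genericPoint X)) →ₐ[k] X.residueField (genericPoint X) :=
    { (f.residueFieldMap (genericPoint X)).hom with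
      commutes' := fun c => congr($(K419.StalkK.resMap_comp k f hf (genericPoint X)) c) }
  let e : Z.residueField (f (genericPoint X)) ≃ₐ[k] X.residueField (genericPoint X) :=
    AlgEquiv.ofBijective φ hb
  rw [VarietyB.DimSch.trd, VarietyB.DimSch.trd, e.trdeg_eq]

theorem comap_prod_pow {Y Z : Scheme.{u}} {r : ℕ} (I : Fin r → Z.IdealSheafData) (α : Fin r → ℕ) (f : Y ⟶ Z) :
    (∏ i, I i ^ α i).comap f = ∏ i, (I i).comap f ^ α i := by
  have key : ∀ s : Finset (Fin r), (∏ i ∈ s, I i ^ α i).comap f = ∏ i ∈ s, (I i).comap f ^ α i := by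
    classical
    intro s
    induction s using Finset.induction_on with
    | empty =>
      rw [Finset.prod_empty, Finset.prod_empty]
      have h := Groth.Agent.Divis.IdealComap.comap_pow (⊤ : Z.IdealSheafData) f 0
      rwa [pow_zero, pow_zero] at h
    | insert a s ha ih =>
      rw [Finset.prod_insert ha, Finset.prod_insert ha, Groth.Agent.Divis.IdealComap.comap_mul, ih,
        Groth.Agent.Divis.IdealComap.comap_pow]
  exact key Finset.univ

/-- The local statement. -/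
theorem local_main {k : Type u} [Field k] (hAlt : K909.AltInterface.Alt k) (hGR : GR k) (hSp : Split k)
    {X Z : Scheme.{u}} [IsIntegral X] [IsIntegral Z] (z : Z ⟶ Spec (CommRingCat.of k)) [IsSeparated z]
    [LocallyOfFiniteType z] (f : X ⟶ Z) [IsProper f] [Surjective f] [Smooth (f ≫ z)] (n : ℕ)
    (hX : topologicalKrullDim X = n) (hZ : topologicalKrullDim Z = n) (Δ : Z.IdealSheafData)
    (hΔ : BlowUp.IsEffCartierIdeal Δ) {r : ℕ}
    (D : Fin r → X.IdealSheafData) (hD : LogNCD.IsNCD D (f ≫ z)) (α : Fin r → ℕ)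
    (hΔD : Δ.comap f = ∏ j, D j ^ α j) (N : ℕ) (hN : 1 ≤ N)
    (W : X.Modules) (hW : ExtPow.IsExtPow n (Omega.sheaf (f ≫ z)) W) [HasInjectiveResolutions X.Modules]
    (b : ℕ) (hb : 0 < b) :
    IsZero ((Coh.Rpush f b).obj (CohB1.tensorMod W (ClSub.idealMod (∏ j, D j ^ (α j / N))))) := by
  have hDe := fun j => K911.Ncd.isEff_of_isNCD hD j
  have hIe : BlowUp.IsEffCartierIdeal (∏ j, D j ^ (α j / N)) :=
    K660.Ram.isEff_prod _ _ fun j => Groth.Agent.Divis.EffCartier.isEff_pow (hDe j) _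
  refine Groth.Agent.PerfA.Restrict.isZero_of_restrict_opens _ fun y => ?_
  obtain ⟨V, hyV, τ, hτ, hτI⟩ := hΔ y
  refine ⟨V.1, hyV, ?_⟩
  let U : X.Opens := f ⁻¹ᵁ V.1
  have hVne : Nonempty V.1.toScheme := ⟨⟨y, hyV⟩⟩
  have hUne : Nonempty U.toScheme := by
    obtain ⟨x, hx⟩ := f.surjective y
    exact ⟨⟨x, by change f x ∈ V.1; rw [hx]; exact hyV⟩⟩
  have hVi : IsIntegral V.1.toScheme := isIntegral_of_isOpenImmersion V.1.ι
  have hUi : IsIntegral U.toScheme := isIntegral_of_isOpenImmersion U.ι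
  have hVa : IsAffine V.1.toScheme := V.2
  have hinj := Dcoh.DerSch.hasInjectiveResolutions U.toScheme
  have hsurj : Surjective (f ∣_ V.1) := IsZariskiLocalAtTarget.restrict ‹Surjective f› V.1
  refine IsZero.of_iso ?_ (CohqA.RpushLoc.rpushResOpen f V.1 b _)
  have hcomm : (f ∣_ V.1) ≫ V.1.ι ≫ z = U.ι ≫ f ≫ z := by
    rw [← Category.assoc, morphismRestrict_ι, Category.assoc]
  have hsm : Smooth ((f ∣_ V.1) ≫ V.1.ι ≫ z) := by rw [hcomm]; infer_instance
  have hNCD' : LogNCD.IsNCD (fun j => (D j).comap U.ι) (U.ι ≫ f ≫ z) := K660.NcdEt.isNCD_comap_of_etale U.ι hD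
  have hNCD : LogNCD.IsNCD (fun j => (D j).comap U.ι) ((f ∣_ V.1) ≫ V.1.ι ≫ z) := by
    rw [hcomm]; exact hNCD'
  have hDUe := fun j => K911.Ncd.isEff_of_isNCD hNCD' j
  have hlft : LocallyOfFiniteType (f ≫ z) := inferInstance
  have hqs : QuasiSeparated (f ≫ z) := inferInstance
  have hdU : topologicalKrullDim U.toScheme = n := by
    rw [K415.ChowAlt.dim_of_openImmersion k (f ≫ z) U.ι, hX]
  have hdV : topologicalKrullDim V.1.toScheme = n := by
    rw [K415.ChowAlt.dim_of_openImmersion k z V.1.ι, hZ]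
  obtain ⟨W', hW'⟩ : ∃ W', ExtPow.IsExtPow n (Omega.sheaf (U.ι ≫ f ≫ z)) W' :=
    Dual.H366.ExtQCoh.exists_isExtPow n (K583.UnivAffine.isQuasicoherent_of_isUniversal (S5005.result _))
  -- the sheaf
  have hcI : (∏ j, D j ^ (α j / N)).comap U.ι = ∏ j, (D j).comap U.ι ^ (α j / N) := comap_prod_pow _ _ _
  have hIUe : BlowUp.IsEffCartierIdeal ((∏ j, D j ^ (α j / N)).comap U.ι) := by
    rw [hcI]
    exact K660.Ram.isEff_prod _ _ fun j => Groth.Agent.Divis.EffCartier.isEff_pow (hDUe j) _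
  obtain ⟨e1⟩ := Dual.H328.ClopenGlue.nonempty_ext_restrict (f ≫ z) U hW hW'
  obtain ⟨e2⟩ := Groth.Agent.Dix.IdealModCartier.pullback_idealMod U.ι hIe hIUe
  obtain ⟨e3⟩ := Ega2.TensHom.tensCongr e1
    ((Scheme.Modules.restrictFunctorIsoPullback U.ι).app (ClSub.idealMod (∏ j, D j ^ (α j / N))) ≪≫ e2 ≪≫
      eqToIso (congrArg ClSub.idealMod hcI))
  refine IsZero.of_iso ?_ ((Coh.Rpush (f ∣_ V.1) b).mapIso
    (Ega3B.TensRestrict.restrictIso U.ι W (ClSub.idealMod (∏ j, D j ^ (α j / N))) ≪≫ e3))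
  -- the equation
  let V' : V.1.toScheme.affineOpens := ⟨⊤, isAffineOpen_top _⟩
  have heV : V'.1 ≤ V.1.ι ⁻¹ᵁ V.1 := by
    intro x _
    exact x.2
  let τ' : Γ(V.1.toScheme, ⊤) := (V.1.ι.appLE V.1 ⊤ heV).hom τ
  have hΔV : (Δ.comap V.1.ι).ideal V' = Ideal.span {τ'} := by
    rw [Groth.Agent.Divis.IdealComap.ideal_comap Δ V.1.ι V V' heV, hτI, Ideal.map_span, Set.image_singleton]
  let t : Γ(U.toScheme, ⊤) := (f ∣_ V.1).appTop τ'
  have hprod : ∏ j, (D j).comap U.ι ^ α j = (Δ.comap V.1.ι).comap (f ∣_ V.1) := by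
    rw [← comap_prod_pow, ← hΔD, ← Scheme.IdealSheafData.comap_comp, ← Scheme.IdealSheafData.comap_comp,
      morphismRestrict_ι]
  have ht : ∀ U' : U.toScheme.affineOpens, (∏ j, (D j).comap U.ι ^ α j).ideal U' =
      Ideal.span {resO U.toScheme (le_top : U'.1 ≤ ⊤) t} := by
    intro U'
    have he : U'.1 ≤ (f ∣_ V.1) ⁻¹ᵁ V'.1 := le_top
    rw [hprod, Groth.Agent.Divis.IdealComap.ideal_comap _ (f ∣_ V.1) V' U' he, hΔV, Ideal.map_span,
      Set.image_singleton]
    rfl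
  have ht0 : t ≠ 0 := by
    intro h0
    have h1 : BlowUp.IsEffCartierIdeal (∏ j, (D j).comap U.ι ^ α j) :=
      K660.Ram.isEff_prod _ _ fun j => Groth.Agent.Divis.EffCartier.isEff_pow (hDUe j) _
    obtain ⟨x⟩ := hUne
    obtain ⟨U', hxU', a, ha, hIa⟩ := h1 x
    have hne : Nonempty U'.1 := ⟨⟨x, hxU'⟩⟩
    rw [ht U', h0, map_zero, Ideal.span_singleton_zero] at hIa
    have ha0 : a = 0 := by
      have h2 : a ∈ (⊥ : Ideal Γ(U.toScheme, U'.1)) := by
        rw [hIa]; exact Ideal.mem_span_singleton_self a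
      exact h2
    exact nonZeroDivisors.ne_zero ha ha0
  have hfin : FlatMod.IsFinLocFree W' := by
    have i1 : SmoothOfRelativeDimension n (U.ι ≫ f ≫ z) :=
      Picfga.CurveRelDim.smoothOfRelativeDimension_of_topologicalKrullDim_eq k U.toScheme (U.ι ≫ f ≫ z) n hdU
    exact Groth.Agent.Sga67.LocBasis.isFinLocFree_of_isExtPow (fun x => by
      obtain ⟨U, hx, e⟩ := Groth.Agent.Dual.H339.OmegaRank.isFinLocFreeOfRank_omega n (U.ι ≫ f ≫ z) x
      exact ⟨U, n, hx, e⟩) hW'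
  have hq : Coh.IsQCoh (CohB1.tensorMod W' (ClSub.idealMod (∏ j, (D j).comap U.ι ^ (α j / N)))) :=
    Groth.Agent.Ega1.TensorRestrict.isQCoh_tensorMod _ _ (Groth.Agent.PerfA.QCohEpi.isQCoh_of_isFinLocFree hfin)
      (Groth.Agent.CohqA.IdealMod.isQCoh_idealMod _)
  rw [Krr.H497.Bridge.isZero_Rpush_iff_HH (f ∣_ V.1) _ hq b]
  exact affine hAlt hGR hSp (V.1.ι ≫ z) (f ∣_ V.1) n hdU hdV t ht0 (fun j => (D j).comap U.ι) hNCD α ht N hN W'
    (by rw [hcomm]; exact hW') b hb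

/-- S17114 modulo (ALT), (GR), (SPLIT). -/
theorem row17114 (k : Type u) [Field k] [IsAlgClosed k] [CharZero k] (hAlt : K909.AltInterface.Alt k) (hGR : GR k)
    (hSp : Split k)
    (X : Scheme.{u}) [X.Over (Spec (CommRingCat.of k))] [IsIntegral X] [Smooth (X ↘ Spec (CommRingCat.of k))]
    (n : ℕ) (hn : topologicalKrullDim X = n)
    (Z : Scheme.{u}) [Z.Over (Spec (CommRingCat.of k))] [IsIntegral Z] [IsSeparated (Z ↘ Spec (CommRingCat.of k))]
    [LocallyOfFiniteType (Z ↘ Spec (CommRingCat.of k))] [CompactSpace Z]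
    (f : X ⟶ Z) (hf : f ≫ (Z ↘ Spec (CommRingCat.of k)) = X ↘ Spec (CommRingCat.of k)) [IsProper f] [Surjective f]
    (hbir : RadPt.IsBirational f)
    (Δ : Z.IdealSheafData) (hΔ : PicF.IsInvertible (ClSub.idealMod Δ))
    {r : ℕ} (D : Fin r → X.IdealSheafData) (hD : LogNCD.IsNCD D (X ↘ Spec (CommRingCat.of k))) (α : Fin r → ℕ)
    (hΔD : Δ.comap f = ∏ j, D j ^ α j) (N : ℕ) (hN : 1 ≤ N)
    (ω : X.Modules) (hω : ExtPow.IsExtPow n (Omega.sheaf (X ↘ Spec (CommRingCat.of k))) ω)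
    [HasInjectiveResolutions X.Modules] (b : ℕ) (hb : 0 < b) :
    IsZero ((Coh.Rpush f b).obj (CohB1.tensorMod ω (ClSub.idealMod (∏ j, D j ^ (α j / N))))) := by
  have hsm : Smooth (f ≫ (Z ↘ Spec (CommRingCat.of k))) := by rw [hf]; infer_instance
  have hlft : LocallyOfFiniteType (X ↘ Spec (CommRingCat.of k)) := inferInstance
  have hZ : topologicalKrullDim Z = n := by rw [dim_eq k f hf hbir, hn]
  exact local_main hAlt hGR hSp (Z ↘ Spec (CommRingCat.of k)) f n hn hZ Δ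
    (Groth.Agent.Dix.IdealModCartier.isEffCartierIdeal_of_isInvertible hΔ) D (by rw [hf]; exact hD) α hΔD N hN ω
    (by rw [hf]; exact hω) b hb

end K232.RootRow
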